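import Mathlib.AlgebraicGeometry.Noetherian
import Mathlib.AlgebraicGeometry.Stalk
import Mathlib.AlgebraicGeometry.FunctionField
import Mathlib.Topology.Connected.LocallyConnected

/-!
# Irreducible components of locally Noetherian spaces and schemes, and nilradicals of local rings
-/

set_option autoImplicit false
universe u
open CategoryTheory AlgebraicGeometry TopologicalSpace Topology

namespace Groth.Agent.Lib.FinCond

section Space

variable {X : Type u} [TopologicalSpace X]

/-- Near a point of an open Noetherian subspace, every point lies on an irreducible subset through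
that point, contained in the open. -/
theorem exists_open_nhd_covered (W : Set X) (hW : IsOpen W) [NoetherianSpace W] {y : X} (hy : y ∈ W) :
    ∃ W' : Set X, IsOpen W' ∧ y ∈ W' ∧ W' ⊆ W ∧
      ∀ u ∈ W', ∃ T : Set X, IsIrreducible T ∧ y ∈ T ∧ u ∈ T ∧ T ⊆ W := by
  let B : Set W := ⋃₀ {T ∈ irreducibleComponents W | (⟨y, hy⟩ : W) ∉ T}
  have hB : IsClosed B := by
    rw [show B = ⋃ T ∈ {T ∈ irreducibleComponents W | (⟨y, hy⟩ : W) ∉ T}, T from Set.sUnion_eq_biUnion]
    exact (NoetherianSpace.finite_irreducibleComponents.subset fun T hT => hT.1).isClosed_biUnion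
      fun T hT => isClosed_of_mem_irreducibleComponents T hT.1
  refine ⟨Subtype.val '' Bᶜ, hW.isOpenMap_subtype_val _ hB.isOpen_compl, ⟨⟨y, hy⟩, ?_, rfl⟩,
    Subtype.coe_image_subset _ _, ?_⟩
  · rintro ⟨T, ⟨-, hT⟩, hyT⟩
    exact hT hyT
  · rintro _ ⟨u, hu, rfl⟩
    refine ⟨Subtype.val '' irreducibleComponent u,
      isIrreducible_irreducibleComponent.image _ continuous_subtype_val.continuousOn, ?_,
      ⟨u, mem_irreducibleComponent, rfl⟩, Subtype.coe_image_subset _ _⟩
    by_contra hyT
    exact hu ⟨_, ⟨irreducibleComponent_mem_irreducibleComponents u, fun h => hyT ⟨_, h, rfl⟩⟩,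
      mem_irreducibleComponent⟩

theorem exists_noetherian_open (hX : ∀ x : X, ∃ U ∈ 𝓝 x, NoetherianSpace U) (x : X) (F : Set X)
    (hF : IsOpen F) (hx : x ∈ F) : ∃ W : Set X, IsOpen W ∧ x ∈ W ∧ W ⊆ F ∧ NoetherianSpace W := by
  obtain ⟨U, hU, hN⟩ := hX x
  obtain ⟨O, hOU, hO, hxO⟩ := mem_nhds_iff.mp hU
  exact ⟨O ∩ F, hO.inter hF, ⟨hxO, hx⟩, Set.inter_subset_right,
    (Topology.IsEmbedding.inclusion (Set.inter_subset_left.trans hOU)).isInducing.noetherianSpace⟩

theorem locallyConnectedSpace_of_locally_noetherian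
    (hX : ∀ x : X, ∃ U ∈ 𝓝 x, NoetherianSpace U) : LocallyConnectedSpace X := by
  rw [locallyConnectedSpace_iff_connectedComponentIn_open]
  intro F hF x hx
  rw [isOpen_iff_forall_mem_open]
  intro y hy
  obtain ⟨W, hW, hyW, hWF, hN⟩ := exists_noetherian_open hX y F hF (connectedComponentIn_subset _ _ hy)
  obtain ⟨W', hW', hyW', hW'W, h⟩ := exists_open_nhd_covered W hW hyW
  refine ⟨W', fun u hu => ?_, hW', hyW'⟩
  obtain ⟨T, hT, hyT, huT, hTW⟩ := h u hu
  rw [connectedComponentIn_eq hy]
  exact hT.isPreirreducible.isPreconnected.subset_connectedComponentIn hyT (hTW.trans hWF) huT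

theorem subset_of_pairwiseDisjoint (h : (irreducibleComponents X).PairwiseDisjoint id)
    {Z : Set X} (hZ : Z ∈ irreducibleComponents X) {y : X} (hy : y ∈ Z) {T : Set X}
    (hT : IsIrreducible T) (hyT : y ∈ T) : T ⊆ Z := by
  obtain ⟨S, hTS, hS⟩ := exists_mem_irreducibleComponents_subset_of_isIrreducible T hT |>
    fun ⟨S, h1, h2⟩ => (⟨S, h2, h1⟩ : ∃ S, T ⊆ S ∧ S ∈ irreducibleComponents X)
  have : S = Z := h.elim_set hS hZ y (hTS hyT) hy
  exact this ▸ hTS

theorem isOpen_of_pairwiseDisjoint (hX : ∀ x : X, ∃ U ∈ 𝓝 x, NoetherianSpace U)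
    (h : (irreducibleComponents X).PairwiseDisjoint id) :
    ∀ Z ∈ irreducibleComponents X, IsOpen Z := by
  intro Z hZ
  rw [isOpen_iff_forall_mem_open]
  intro y hy
  obtain ⟨W, hW, hyW, -, hN⟩ := exists_noetherian_open hX y Set.univ isOpen_univ trivial
  obtain ⟨W', hW', hyW', -, h'⟩ := exists_open_nhd_covered W hW hyW
  refine ⟨W', fun u hu => ?_, hW', hyW'⟩
  obtain ⟨T, hT, hyT, huT, -⟩ := h' u hu
  exact subset_of_pairwiseDisjoint h hZ hy hT hyT huT

theorem components_tfae (hX : ∀ x : X, ∃ U ∈ 𝓝 x, NoetherianSpace U) :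
    List.TFAE [∀ Z ∈ irreducibleComponents X, IsOpen Z,
      irreducibleComponents X = Set.range (connectedComponent : X → Set X),
      ∀ x : X, IsIrreducible (connectedComponent x),
      (irreducibleComponents X).PairwiseDisjoint id] := by
  tfae_have 1 → 2 := by
    intro h
    have key : ∀ Z ∈ irreducibleComponents X, ∀ x ∈ Z, connectedComponent x = Z := fun Z hZ x hx =>
      le_antisymm (IsClopen.connectedComponent_subset ⟨isClosed_of_mem_irreducibleComponents Z hZ, h Z hZ⟩ hx)
        (hZ.1.isPreirreducible.isPreconnected.subset_connectedComponent hx)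
    ext Z
    constructor
    · intro hZ
      obtain ⟨x, hx⟩ := hZ.1.nonempty
      exact ⟨x, key Z hZ x hx⟩
    · rintro ⟨x, rfl⟩
      rw [key _ (irreducibleComponent_mem_irreducibleComponents x) x mem_irreducibleComponent]
      exact irreducibleComponent_mem_irreducibleComponents x
  tfae_have 2 → 3 := fun h x => (h.ge ⟨x, rfl⟩).1
  tfae_have 3 → 4 := by
    intro h Z hZ Z' hZ' hne
    refine Set.disjoint_left.mpr fun x hx hx' => hne ?_
    have key : ∀ S ∈ irreducibleComponents X, x ∈ S → S = connectedComponent x := fun S hS hxS =>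
      le_antisymm (hS.1.isPreirreducible.isPreconnected.subset_connectedComponent hxS)
        (hS.2 (h x) (hS.1.isPreirreducible.isPreconnected.subset_connectedComponent hxS))
    rw [key Z hZ hx, key Z' hZ' hx']
  tfae_have 4 → 1 := isOpen_of_pairwiseDisjoint hX
  tfae_finish

end Space

section Scheme

variable (X : Scheme.{u})

theorem exists_maximal_specializes (x : X) :
    ∃ η : X, η ⤳ x ∧ closure {η} ∈ irreducibleComponents (X : Type u) := by
  let C : irreducibleComponents (X : Type u) :=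
    ⟨irreducibleComponent x, irreducibleComponent_mem_irreducibleComponents x⟩
  exact ⟨(genericPoints.ofComponent C).1,
    (genericPoints.isGenericPoint_ofComponent C).specializes mem_irreducibleComponent,
    (genericPoints.ofComponent C).2⟩

theorem eq_of_specializes {η z : X} (hη : closure {η} ∈ irreducibleComponents (X : Type u))
    (h : z ⤳ η) : z = η := by
  have h1 : closure {η} ⊆ closure ({z} : Set X) :=
    closure_minimal (Set.singleton_subset_iff.mpr (specializes_iff_mem_closure.mp h)) isClosed_closure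
  have h2 : η ⤳ z := specializes_iff_mem_closure.mpr
    (hη.2 isIrreducible_singleton.closure h1 (subset_closure rfl))
  exact (h.antisymm h2).eq

/-- Specializations in the image of the spectrum of a local ring. -/
theorem nilradical_stalk_isPrime_iff (x : X) :
    (nilradical (X.presheaf.stalk x)).IsPrime ↔ ∃ η : X, η ⤳ x ∧ ∀ y : X, y ⤳ x → η ⤳ y := by
  have hemb : IsInducing (X.fromSpecStalk x) := (X.fromSpecStalk x).isEmbedding.isInducing
  have hr : ∀ y : X, y ⤳ x ↔ y ∈ Set.range (X.fromSpecStalk x) := fun y => by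
    rw [Scheme.range_fromSpecStalk]; rfl
  constructor
  · intro h
    let p : PrimeSpectrum (X.presheaf.stalk x) := ⟨_, h⟩
    refine ⟨X.fromSpecStalk x p, (hr _).mpr ⟨p, rfl⟩, fun y hy => ?_⟩
    obtain ⟨q, rfl⟩ := (hr y).mp hy
    exact ((PrimeSpectrum.le_iff_specializes p q).mp (@nilradical_le_prime _ _ q.asIdeal q.isPrime)).map
      (X.fromSpecStalk x).continuous
  · rintro ⟨η, hη, hmin⟩
    obtain ⟨p, rfl⟩ := (hr η).mp hη
    have : nilradical (X.presheaf.stalk x) = p.asIdeal := by
      refine le_antisymm (@nilradical_le_prime _ _ p.asIdeal p.isPrime) ?_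
      rw [nilradical_eq_sInf]
      refine le_sInf fun J hJ => ?_
      let q : PrimeSpectrum (X.presheaf.stalk x) := ⟨J, hJ⟩
      exact (PrimeSpectrum.le_iff_specializes p q).mpr
        (hemb.specializes_iff.mp (hmin _ ((hr _).mpr ⟨q, rfl⟩)))
    rw [this]
    exact p.isPrime

theorem pairwiseDisjoint_iff_nilradical_isPrime :
    (irreducibleComponents (X : Type u)).PairwiseDisjoint id ↔
      ∀ x : X, (nilradical (X.presheaf.stalk x)).IsPrime := by
  constructor
  · intro h x
    rw [nilradical_stalk_isPrime_iff]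
    obtain ⟨η, hη, hmax⟩ := exists_maximal_specializes X x
    refine ⟨η, hη, fun y hy => ?_⟩
    obtain ⟨η', hη', hmax'⟩ := exists_maximal_specializes X y
    have e : closure {η} = closure ({η'} : Set X) :=
      h.elim_set hmax hmax' x (specializes_iff_mem_closure.mp hη)
        (specializes_iff_mem_closure.mp (hη'.trans hy))
    have : η ⤳ η' := specializes_iff_mem_closure.mpr (e ▸ subset_closure rfl)
    exact this.trans hη'
  · intro h Z hZ Z' hZ' hne
    refine Set.disjoint_left.mpr fun x hx hx' => hne ?_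
    obtain ⟨η, hη, hmin⟩ := (nilradical_stalk_isPrime_iff X x).mp (h x)
    have key : ∀ S ∈ irreducibleComponents (X : Type u), x ∈ S → S = closure {η} := fun S hS hxS => by
      obtain ⟨s, hs⟩ := QuasiSober.sober hS.1 (isClosed_of_mem_irreducibleComponents S hS)
      have h1 := hmin s (hs.specializes hxS)
      have e : η = s := eq_of_specializes X (hs.symm ▸ hS) h1
      exact e ▸ hs.symm
    rw [key Z hZ hx, key Z' hZ' hx']

theorem locally_noetherian [IsLocallyNoetherian X] (x : X) :
    ∃ U ∈ 𝓝 x, NoetherianSpace U := by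
  obtain ⟨V, hV, hxV, -⟩ := exists_isAffineOpen_mem_and_subset (x := x) (U := (⊤ : X.Opens)) trivial
  refine ⟨(V : Set X), V.2.mem_nhds hxV, ?_⟩
  have : IsNoetherianRing Γ(X, V) := IsLocallyNoetherian.component_noetherian ⟨V, hV⟩
  exact noetherianSpace_of_isAffineOpen V hV

theorem exists_irreducible_nhd [IsLocallyNoetherian X] (x : X)
    (hx : (nilradical (X.presheaf.stalk x)).IsPrime) :
    ∃ U : X.Opens, x ∈ U ∧ IsIrreducible (U : Set X) := by
  obtain ⟨η, hη, hmin⟩ := (nilradical_stalk_isPrime_iff X x).mp hx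
  obtain ⟨W, hW, hxW, -, hN⟩ :=
    exists_noetherian_open (locally_noetherian X) x Set.univ isOpen_univ trivial
  obtain ⟨W', hW', hxW', -, h⟩ := exists_open_nhd_covered W hW hxW
  refine ⟨⟨W', hW'⟩, hxW', (isGenericPoint_closure (x := η)).isIrreducible.isPreirreducible
    |> fun h0 => ?_⟩
  have hsub : W' ⊆ closure {η} := fun u hu => by
    obtain ⟨T, hT, hxT, huT, -⟩ := h u hu
    obtain ⟨t, ht⟩ := QuasiSober.sober hT.closure isClosed_closure
    exact specializes_iff_mem_closure.mp
      ((hmin t (ht.specializes (subset_closure hxT))).trans (ht.specializes (subset_closure huT)))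
  exact ⟨⟨x, hxW'⟩, h0.open_subset hW' hsub⟩

theorem exists_reduced_nhd [IsLocallyNoetherian X] (x : X) [_root_.IsReduced (X.presheaf.stalk x)] :
    ∃ U : X.Opens, x ∈ U ∧ IsReduced (U : Scheme.{u}) := by
  obtain ⟨V, hV, hxV, -⟩ := exists_isAffineOpen_mem_and_subset (x := x) (U := (⊤ : X.Opens)) trivial
  have : IsNoetherianRing Γ(X, V) := IsLocallyNoetherian.component_noetherian ⟨V, hV⟩
  letI := TopCat.Presheaf.algebra_section_stalk X.presheaf (⟨x, hxV⟩ : V)
  haveI := hV.isLocalization_stalk ⟨x, hxV⟩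
  have key : ∀ a ∈ nilradical Γ(X, V),
      ∃ s : Γ(X, V), s ∉ (hV.primeIdealOf ⟨x, hxV⟩).asIdeal ∧ s * a = 0 := by
    intro a ha
    have h0 : algebraMap Γ(X, V) (X.presheaf.stalk x) a = 0 :=
      ((mem_nilradical.mp ha).map _).eq_zero
    obtain ⟨s, hs⟩ := (IsLocalization.map_eq_zero_iff
      (hV.primeIdealOf ⟨x, hxV⟩).asIdeal.primeCompl (X.presheaf.stalk x) a).mp h0
    exact ⟨s, s.2, hs⟩
  obtain ⟨G, hG⟩ := IsNoetherian.noetherian (nilradical Γ(X, V))
  choose! s hs hsa using key
  have hGmem : ∀ a ∈ G, a ∈ nilradical Γ(X, V) := fun a ha => hG ▸ Submodule.subset_span ha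
  let t := ∏ a ∈ G, s a
  have ht : t ∉ (hV.primeIdealOf ⟨x, hxV⟩).asIdeal := fun h =>
    let ⟨a, ha, h'⟩ := (Ideal.IsPrime.prod_mem_iff).1 h
    hs a (hGmem a ha) h'
  have htN : ∀ a ∈ nilradical Γ(X, V), t * a = 0 := by
    intro a ha
    rw [← hG] at ha
    induction ha using Submodule.span_induction with
    | mem y hy =>
      obtain ⟨c, hc⟩ := Finset.dvd_prod_of_mem s hy
      show (∏ a ∈ G, s a) * y = 0
      rw [hc, mul_right_comm, hsa y (hGmem y hy), zero_mul]
    | zero => simp
    | add y z _ _ hy hz => rw [mul_add, hy, hz, add_zero]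
    | smul r y _ hy => rw [smul_eq_mul, mul_left_comm, hy, mul_zero]
  have hxb : x ∈ X.basicOpen t := by
    rw [X.mem_basicOpen _ x hxV]
    exact IsLocalization.map_units (X.presheaf.stalk x)
      (⟨t, ht⟩ : (hV.primeIdealOf ⟨x, hxV⟩).asIdeal.primeCompl)
  refine ⟨X.basicOpen t, hxb, ?_⟩
  haveI := hV.isLocalization_basicOpen t
  have hred : _root_.IsReduced Γ(X, X.basicOpen t) := by
    refine ⟨fun z hz => ?_⟩
    obtain ⟨⟨a, u⟩, hu⟩ := IsLocalization.surj (Submonoid.powers t) z
    obtain ⟨n, hn⟩ := hz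
    have h0 : algebraMap Γ(X, V) Γ(X, X.basicOpen t) (a ^ n) = 0 := by
      rw [map_pow, ← hu, mul_pow, hn, zero_mul]
    obtain ⟨⟨w, k, rfl⟩, hw⟩ :=
      (IsLocalization.map_eq_zero_iff (Submonoid.powers t) Γ(X, X.basicOpen t) _).mp h0
    have hna : t ^ k * a ∈ nilradical Γ(X, V) := by
      refine ⟨n + 1, ?_⟩
      have hw' : t ^ k * a ^ n = 0 := hw
      calc (t ^ k * a) ^ (n + 1) = t ^ (k * n) * (t ^ k * a ^ n) * a := by
            rw [pow_succ, mul_pow, ← pow_mul]; ring
        _ = 0 := by rw [hw', mul_zero, zero_mul]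
    have ha0 : algebraMap Γ(X, V) Γ(X, X.basicOpen t) a = 0 :=
      (IsLocalization.map_eq_zero_iff (Submonoid.powers t) _ _).mpr
        ⟨⟨t * t ^ k, k + 1, pow_succ' t k⟩, by
          show t * t ^ k * a = 0
          rw [mul_assoc]; exact htN _ hna⟩
    rw [ha0] at hu
    exact (IsLocalization.map_units _ u).mul_left_eq_zero.mp hu
  have := (hV.basicOpen t)
  haveI : IsAffine (X.basicOpen t : Scheme.{u}) := this
  haveI : _root_.IsReduced Γ((X.basicOpen t : Scheme.{u}), ⊤) :=
    isReduced_of_injective (X.basicOpen t).topIso.hom.hom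
      (X.basicOpen t).topIso.commRingCatIsoToRingEquiv.injective
  exact isReduced_of_isOpenImmersion (X.basicOpen t : Scheme.{u}).isoSpec.hom

theorem exists_integral_nhd [IsLocallyNoetherian X] (x : X) [IsDomain (X.presheaf.stalk x)] :
    ∃ U : X.Opens, x ∈ U ∧ IsIntegral (U : Scheme.{u}) := by
  obtain ⟨U₁, hx₁, h₁⟩ := exists_irreducible_nhd X x (by
    rw [nilradical_eq_zero]; exact Ideal.isPrime_bot)
  obtain ⟨U₂, hx₂, h₂⟩ := exists_reduced_nhd X x
  refine ⟨U₁ ⊓ U₂, ⟨hx₁, hx₂⟩, ?_⟩
  haveI : IrreducibleSpace (U₁ ⊓ U₂ : X.Opens) := by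
    have : IsIrreducible ((U₁ ⊓ U₂ : X.Opens) : Set X) :=
      ⟨⟨x, hx₁, hx₂⟩, h₁.2.open_subset (U₁ ⊓ U₂).2 inf_le_left⟩
    exact Subtype.irreducibleSpace this
  haveI : IrreducibleSpace ((U₁ ⊓ U₂ : X.Opens) : Scheme.{u}) := this
  haveI : IsReduced ((U₁ ⊓ U₂ : X.Opens) : Scheme.{u}) :=
    isReduced_of_isOpenImmersion (X.homOfLE (inf_le_right : U₁ ⊓ U₂ ≤ U₂))
  exact isIntegral_of_irreducibleSpace_of_isReduced _

theorem irreducibleSpace_iff [IsLocallyNoetherian X] :
    IrreducibleSpace X ↔ ConnectedSpace X ∧ ∀ x : X, (nilradical (X.presheaf.stalk x)).IsPrime := by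
  rw [← pairwiseDisjoint_iff_nilradical_isPrime]
  constructor
  · intro h
    refine ⟨inferInstance, ?_⟩
    rw [irreducibleComponents_eq_singleton]
    exact Set.pairwiseDisjoint_singleton _ _
  · rintro ⟨hc, hd⟩
    have := ((components_tfae (X := (X : Type u)) (locally_noetherian X)).out 3 2).mp hd
    obtain ⟨x⟩ := hc.toNonempty
    have h := this x
    rw [PreconnectedSpace.connectedComponent_eq_univ] at h
    exact irreducibleSpace_def _ |>.mpr h

theorem isIntegral_iff [IsLocallyNoetherian X] :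
    IsIntegral X ↔ ConnectedSpace X ∧ ∀ x : X, IsDomain (X.presheaf.stalk x) := by
  constructor
  · intro h
    exact ⟨inferInstance, fun x => inferInstance⟩
  · rintro ⟨hc, hd⟩
    haveI : IrreducibleSpace X := (irreducibleSpace_iff X).mpr ⟨hc, fun x => by
      haveI := hd x
      rw [nilradical_eq_zero]; exact Ideal.isPrime_bot⟩
    haveI : ∀ x : X, _root_.IsReduced (X.presheaf.stalk x) := fun x => by
      haveI := hd x
      infer_instance
    haveI : IsReduced X := isReduced_of_isReduced_stalk X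
    exact isIntegral_of_irreducibleSpace_of_isReduced X

end Scheme

end Groth.Agent.Lib.FinCond
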