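import Groth.Agent.Lib.FinCond.Components
import Mathlib.AlgebraicGeometry.Morphisms.UnderlyingMap
import Mathlib.AlgebraicGeometry.Morphisms.QuasiSeparated
import Mathlib.RingTheory.Ideal.MinimalPrime.Localization
import Mathlib.RingTheory.Spectrum.Prime.Topology

/-!
# Closure of the image of a quasi-compact morphism; induction on quasi-compact opens
-/

set_option autoImplicit false
universe u
open CategoryTheory AlgebraicGeometry TopologicalSpace Topology

namespace Groth.Agent.Lib.FinCond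

/-- A point in the closure of the image of a quasi-compact morphism specializes from an image. -/
theorem exists_specializes_of_mem_closure_range {X Y : Scheme.{u}} (f : X ⟶ Y) [QuasiCompact f]
    {y : Y} (hy : y ∈ closure (Set.range f)) : ∃ x : X, f x ⤳ y := by
  obtain ⟨V, hV, hyV, -⟩ := exists_isAffineOpen_mem_and_subset (x := y) (U := (⊤ : Y.Opens)) trivial
  haveI : CompactSpace (f ⁻¹ᵁ V : X.Opens) :=
    isCompact_iff_compactSpace.mp (f.isCompact_preimage hV.isCompact)
  haveI : CompactSpace ((f ⁻¹ᵁ V : X.Opens) : Scheme.{u}) :=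
    isCompact_iff_compactSpace.mp (f.isCompact_preimage hV.isCompact)
  obtain ⟨R, g, hg⟩ := compactSpace_iff_exists.mp ‹CompactSpace ((f ⁻¹ᵁ V : X.Opens) : Scheme.{u})›
  let h : Spec R ⟶ Spec Γ(Y, V) := g ≫ (f ∣_ V) ≫ hV.isoSpec.hom
  obtain ⟨φ, hφ⟩ := Spec.map_surjective h
  have heq : Spec.map φ ≫ hV.fromSpec = g ≫ (f ⁻¹ᵁ V).ι ≫ f := by
    rw [hφ]
    simp only [h, Category.assoc, IsAffineOpen.fromSpec, Iso.hom_inv_id_assoc]
    rw [morphismRestrict_ι]
  let p : PrimeSpectrum Γ(Y, V) := hV.primeIdealOf ⟨y, hyV⟩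
  have hp : hV.fromSpec p = y := hV.fromSpec_primeIdealOf ⟨y, hyV⟩
  have hker : RingHom.ker φ.hom ≤ p.asIdeal := by
    have h1 : p ∈ closure (Set.range (PrimeSpectrum.comap φ.hom)) := by
      have h2 : p ∈ hV.fromSpec ⁻¹' closure (Set.range f) := by
        show hV.fromSpec p ∈ closure (Set.range f)
        rwa [hp]
      rw [hV.fromSpec.isOpenEmbedding.isOpenMap.preimage_closure_eq_closure_preimage
        hV.fromSpec.continuous] at h2
      refine closure_mono ?_ h2
      rintro q ⟨x, hx⟩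
      have hxV : x ∈ f ⁻¹ᵁ V := by
        show f x ∈ V
        have hq : hV.fromSpec q ∈ (V : Set Y) := hV.range_fromSpec ▸ Set.mem_range_self q
        rw [hx]; exact hq
      obtain ⟨r, hr⟩ := hg ⟨x, hxV⟩
      refine ⟨r, hV.fromSpec.isOpenEmbedding.injective ?_⟩
      show (Spec.map φ ≫ hV.fromSpec) r = hV.fromSpec q
      rw [heq, ← hx, Scheme.Hom.comp_apply, hr]
      rfl
    rw [PrimeSpectrum.closure_range_comap] at h1
    exact h1
  obtain ⟨q, hq, hqp⟩ := Ideal.exists_minimalPrimes_le hker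
  obtain ⟨Q, hQ, -, hQq⟩ := Ideal.exists_comap_eq_of_mem_minimalPrimes (I := ⊥) φ.hom q
    (by rw [← RingHom.ker_eq_comap_bot]; exact hq)
  refine ⟨(f ⁻¹ᵁ V).ι (g ⟨Q, hQ⟩), ?_⟩
  have hsp : Spec.map φ ⟨Q, hQ⟩ ⤳ p := by
    refine (PrimeSpectrum.le_iff_specializes _ _).mp ?_
    show Ideal.comap φ.hom Q ≤ p.asIdeal
    rw [hQq]; exact hqp
  have := hsp.map hV.fromSpec.continuous
  rw [hp] at this
  have e : (Spec.map φ ≫ hV.fromSpec) ⟨Q, hQ⟩ = (g ≫ (f ⁻¹ᵁ V).ι ≫ f) ⟨Q, hQ⟩ := by rw [heq]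
  exact e ▸ this

theorem isDominant_iff_of_quasiCompact {X Y : Scheme.{u}} (f : X ⟶ Y) [QuasiCompact f] :
    IsDominant f ↔ ∀ y : Y, closure {y} ∈ irreducibleComponents (Y : Type u) →
      ∃ x : X, closure {x} ∈ irreducibleComponents (X : Type u) ∧ f x = y := by
  constructor
  · intro hd y hy
    obtain ⟨x, hx⟩ := exists_specializes_of_mem_closure_range f (y := y)
      (by rw [f.denseRange.closure_range]; trivial)
    obtain ⟨η, hη, hmax⟩ := exists_maximal_specializes X x
    exact ⟨η, hmax, eq_of_specializes Y hy ((hη.map f.continuous).trans hx)⟩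
  · intro h
    refine ⟨dense_iff_closure_eq.mpr (Set.univ_subset_iff.mp ?_)⟩
    rw [← genericPoints.closure (α := (Y : Type u))]
    refine closure_mono fun y hy => ?_
    obtain ⟨x, -, rfl⟩ := h y hy
    exact Set.mem_range_self x

theorem qcqs_induction (X : Scheme.{u}) [QuasiSeparatedSpace X]
    (P : X.Opens → Prop) (ha : ∀ U : X.Opens, IsAffineOpen U → P U)
    (hb : ∀ (U : X.Opens) (n : ℕ) (V : Fin n → X.Opens), IsCompact (U : Set X) →
      (∀ i, IsAffineOpen (V i)) → ⨆ i, V i = U → (∀ i j, P (V i ⊓ V j)) → P U)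
    (U : X.Opens) (hU : IsCompact (U : Set X)) : P U := by
  have key : ∀ (W : X.Opens), IsAffineOpen W → ∀ U : X.Opens, IsCompact (U : Set X) → U ≤ W → P U := by
    intro W hW U hU hle
    have hcov : ∀ x : U, ∃ r : Γ(X, W), X.basicOpen r ≤ U ∧ x.1 ∈ X.basicOpen r := fun x =>
      hW.exists_basicOpen_le x (hle x.2)
    choose r hr hxr using hcov
    obtain ⟨t, ht⟩ := hU.elim_finite_subcover (fun x : U => (X.basicOpen (r x) : Set X))
      (fun x => (X.basicOpen (r x)).2) fun x hx => Set.mem_iUnion.mpr ⟨⟨x, hx⟩, hxr ⟨x, hx⟩⟩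
    let e := t.equivFin
    refine hb U t.card (fun i => X.basicOpen (r (e.symm i).1)) hU (fun i => hW.basicOpen _) ?_ fun i j => ?_
    · refine le_antisymm (iSup_le fun i => hr _) fun x hx => ?_
      obtain ⟨a, hat, hxa⟩ := Set.mem_iUnion₂.mp (ht hx)
      refine Opens.mem_iSup.mpr ⟨e ⟨a, hat⟩, ?_⟩
      rw [e.symm_apply_apply]
      exact hxa
    · rw [← X.basicOpen_mul]
      exact ha _ (hW.basicOpen _)
  obtain ⟨s, hs, hUs⟩ := isCompact_iff_finite_and_eq_biUnion_affineOpens.mp hU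
  lift s to Finset X.affineOpens using hs
  let e := s.equivFin
  refine hb U s.card (fun i => (e.symm i).1.1) hU (fun i => (e.symm i).1.2) ?_ fun i j => ?_
  · rw [hUs]
    refine le_antisymm (iSup_le fun i => le_iSup₂_of_le (e.symm i).1 (e.symm i).2 le_rfl)
      (iSup₂_le fun W hW => le_iSup_of_le (e ⟨W, hW⟩) ?_)
    rw [e.symm_apply_apply]
  · refine key _ (e.symm i).1.2 _ ?_ inf_le_left
    exact QuasiSeparatedSpace.inter_isCompact _ _ (e.symm i).1.1.2 (e.symm i).1.2.isCompact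
      (e.symm j).1.1.2 (e.symm j).1.2.isCompact

end Groth.Agent.Lib.FinCond
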