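import Mathlib.AlgebraicGeometry.Noetherian
import Mathlib.AlgebraicGeometry.Artinian
import Mathlib.AlgebraicGeometry.IdealSheaf.Basic
import Mathlib.AlgebraicGeometry.Morphisms.FiniteType
import Mathlib.AlgebraicGeometry.Morphisms.Immersion
import Mathlib.RingTheory.Jacobson.Artinian
import Mathlib.Data.DFinsupp.WellFounded

/-!
# Finiteness properties of Noetherian schemes and of morphisms from or to locally Noetherian spaces
-/

set_option autoImplicit false
universe u
open CategoryTheory AlgebraicGeometry TopologicalSpace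

namespace Groth.Agent.Lib.FinCond

theorem noetherianSpace_of_isCompact {X : Type u} [TopologicalSpace X]
    (hX : ∀ x : X, ∃ U : Set X, IsOpen U ∧ x ∈ U ∧ NoetherianSpace U) {K : Set X} (hK : IsCompact K) :
    NoetherianSpace K := by
  choose U hU hxU hN using hX
  obtain ⟨t, ht⟩ := hK.elim_finite_subcover U hU fun x _ => Set.mem_iUnion.mpr ⟨x, hxU x⟩
  have : ∀ i : t, NoetherianSpace (U i.1) := fun i => hN i.1
  have hN' : NoetherianSpace (⋃ i : t, U i.1) := NoetherianSpace.iUnion fun i : t => U i.1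
  exact (Topology.IsEmbedding.inclusion (ht.trans (by
    intro y hy
    obtain ⟨i, hi, hy⟩ := Set.mem_iUnion₂.mp hy
    exact Set.mem_iUnion.mpr ⟨⟨i, hi⟩, hy⟩) : K ⊆ ⋃ i : t, U i.1)).isInducing.noetherianSpace

theorem quasiCompact_of_comp {X Y Z : Scheme.{u}} (f : X ⟶ Y) (g : Y ⟶ Z) [QuasiCompact (f ≫ g)]
    (hX : ∀ x : X, ∃ U : X.Opens, x ∈ U ∧ NoetherianSpace U) : QuasiCompact f := by
  rw [quasiCompact_iff_forall_isAffineOpen]
  intro V hV
  obtain ⟨s, hs, hsub⟩ : ∃ s : Set Z.affineOpens, s.Finite ∧ g '' (V : Set Y) ⊆ ⋃ W ∈ s, (W.1 : Set Z) := by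
    have hc : IsCompact (g '' (V : Set Y)) := hV.isCompact.image g.continuous
    obtain ⟨t, ht⟩ := hc.elim_finite_subcover (fun W : Z.affineOpens => (W.1 : Set Z)) (fun W => W.1.2)
      fun z _ => by
        obtain ⟨W, hW, hzW, -⟩ := exists_isAffineOpen_mem_and_subset (x := z) (U := (⊤ : Z.Opens)) trivial
        exact Set.mem_iUnion.mpr ⟨⟨W, hW⟩, hzW⟩
    exact ⟨t, t.finite_toSet, ht⟩
  let K : Set X := ⋃ W ∈ s, ((f ≫ g) ⁻¹ᵁ W.1 : Set X)
  have hK : IsCompact K := hs.isCompact_biUnion fun W _ =>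
    QuasiCompact.isCompact_preimage (f := f ≫ g) _ W.1.2 W.2.isCompact
  have := noetherianSpace_of_isCompact
    (fun x => let ⟨U, hx, hN⟩ := hX x; ⟨U, U.2, hx, hN⟩) hK
  refine (noetherianSpace_set_iff K).mp this _ fun x hx => ?_
  obtain ⟨W, hW, hxW⟩ := Set.mem_iUnion₂.mp (hsub ⟨f x, hx, rfl⟩)
  exact Set.mem_iUnion₂.mpr ⟨W, hW, hxW⟩

theorem quasiCompact_of_isImmersion {X Y : Scheme.{u}} (f : X ⟶ Y) [IsImmersion f]
    (hY : ∀ y : Y, ∃ U : Y.Opens, y ∈ U ∧ NoetherianSpace U) : QuasiCompact f := by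
  rw [quasiCompact_iff_forall_isAffineOpen]
  intro V hV
  have := noetherianSpace_of_isCompact
    (fun x => let ⟨U, hx, hN⟩ := hY x; ⟨U, U.2, hx, hN⟩) hV.isCompact
  rw [f.isEmbedding.isCompact_iff]
  exact (noetherianSpace_set_iff (V : Set Y)).mp this _ (Set.image_preimage_subset _ _)

variable (X : Scheme.{u})

theorem exists_finite_affine_cover [CompactSpace X] :
    ∃ s : Finset X.affineOpens, ⨆ i : s, (i.1.1 : X.Opens) = ⊤ := by
  obtain ⟨t, ht⟩ := isCompact_univ.elim_finite_subcover (fun W : X.affineOpens => (W.1 : Set X))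
    (fun W => W.1.2) fun x _ => by
      obtain ⟨W, hW, hxW, -⟩ := exists_isAffineOpen_mem_and_subset (x := x) (U := (⊤ : X.Opens)) trivial
      exact Set.mem_iUnion.mpr ⟨⟨W, hW⟩, hxW⟩
  refine ⟨t, top_le_iff.mp fun x _ => ?_⟩
  obtain ⟨W, hW, hxW⟩ := Set.mem_iUnion₂.mp (ht (Set.mem_univ x))
  exact Opens.mem_iSup.mpr ⟨⟨W, hW⟩, hxW⟩

theorem wellFoundedGT_idealSheafData [IsNoetherian X] : WellFoundedGT X.IdealSheafData := by
  obtain ⟨t, ht⟩ := exists_finite_affine_cover X
  let φ : X.IdealSheafData → ∀ i : t, Ideal Γ(X, i.1.1) := fun I i => I.ideal i.1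
  have hφ : StrictMono φ := fun I J h =>
    ⟨fun i => h.le i.1, fun h' => h.not_ge
      (Scheme.IdealSheafData.le_of_iSup_eq_top (fun i : t => i.1) ht fun i => h' i)⟩
  have : ∀ i : t, IsNoetherianRing Γ(X, i.1.1) := fun i => IsLocallyNoetherian.component_noetherian i.1
  have : ∀ i : t, WellFoundedGT (Ideal Γ(X, i.1.1)) := fun i => inferInstance
  have : WellFoundedGT (∀ i : t, Ideal Γ(X, i.1.1)) :=
    Pi.wellFoundedLT (α := fun i : t => (Ideal Γ(X, i.1.1))ᵒᵈ)
  exact hφ.wellFoundedGT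

theorem isNilpotent_nilradical [IsNoetherian X] : IsNilpotent X.nilradical := by
  obtain ⟨t, ht⟩ := exists_finite_affine_cover X
  have : ∀ i : t, IsNoetherianRing Γ(X, i.1.1) := fun i => IsLocallyNoetherian.component_noetherian i.1
  choose n hn using fun i : t => IsNoetherianRing.isNilpotent_nilradical Γ(X, i.1.1)
  refine ⟨Finset.univ.sup n, ?_⟩
  refine Scheme.IdealSheafData.ext_of_iSup_eq_top (fun i : t => i.1) ht fun i => ?_
  rw [Scheme.IdealSheafData.ideal_pow, Scheme.IdealSheafData.zero_eq_bot,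
    Scheme.IdealSheafData.ideal_bot, Pi.pow_apply, Pi.bot_apply]
  show (Ideal.radical (⊥ : Ideal Γ(X, i.1.1))) ^ Finset.univ.sup n = ⊥
  obtain ⟨k, hk⟩ := Nat.exists_eq_add_of_le (Finset.le_sup (f := n) (Finset.mem_univ i))
  rw [hk, pow_add]
  have := hn i
  rw [nilradical, Ideal.zero_eq_bot] at this
  rw [this]
  exact Ideal.bot_mul _

theorem discreteTopology_of_t1 [IsNoetherian X] [T1Space X] : Finite X ∧ DiscreteTopology X := by
  have h : Finite X := by
    have hfin := (genericPoints.finite (α := (X : Type u))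
      NoetherianSpace.finite_irreducibleComponents)
    refine Set.finite_univ_iff.mp (hfin.subset fun x _ => ?_)
    let C : irreducibleComponents (X : Type u) :=
      ⟨irreducibleComponent x, irreducibleComponent_mem_irreducibleComponents x⟩
    have hg := genericPoints.isGenericPoint_ofComponent C
    have : (genericPoints.ofComponent C).1 = x :=
      (hg.specializes mem_irreducibleComponent).eq
    exact this ▸ (genericPoints.ofComponent C).2
  exact ⟨h, inferInstance⟩

theorem nonempty_ringEquiv_pi_stalk [DiscreteTopology X] :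
    Nonempty (Γ(X, ⊤) ≃+* ((x : X) → X.presheaf.stalk x)) := by
  let Φ : Γ(X, ⊤) →+* ((x : X) → X.presheaf.stalk x) :=
    RingHom.pi fun x => (X.presheaf.germ ⊤ x trivial).hom
  refine ⟨RingEquiv.ofBijective Φ ⟨fun a b h => ?_, fun g => ?_⟩⟩
  · exact TopCat.Presheaf.section_ext X.sheaf ⊤ a b fun x _ => congrFun h x
  · choose U hxU s hs using fun x => X.presheaf.exists_germ_eq (g x)
    let W : X → X.Opens := fun x => U x ⊓ ⟨{x}, isOpen_discrete _⟩
    let sW : ∀ x, Γ(X, W x) := fun x => X.presheaf.map (homOfLE inf_le_left).op (s x)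
    have hc : TopCat.Presheaf.IsCompatible X.sheaf.1 W sW := by
      intro i j
      refine TopCat.Presheaf.section_ext X.sheaf _ _ _ fun x hx => ?_
      obtain rfl : x = i := hx.1.2
      obtain rfl : x = j := hx.2.2
      rfl
    obtain ⟨a, ha, -⟩ := X.sheaf.existsUnique_gluing' W ⊤ (fun x => homOfLE le_top)
      (fun x _ => Opens.mem_iSup.mpr ⟨x, hxU x, rfl⟩) sW hc
    refine ⟨a, funext fun x => ?_⟩
    show X.presheaf.germ ⊤ x trivial a = g x
    rw [← TopCat.Presheaf.germ_res_apply X.presheaf (homOfLE (le_top : W x ≤ ⊤)) x ⟨hxU x, rfl⟩ a]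
    erw [ha x]
    simp only [sW]
    erw [TopCat.Presheaf.germ_res_apply]
    exact hs x

theorem isAffine_and_finite_of_finite (K : Type u) [Field K] (f : X ⟶ Spec (CommRingCat.of K))
    [LocallyOfFiniteType f] [Finite X] : IsAffine X ∧ f.appTop.hom.Finite := by
  have : JacobsonSpace X := LocallyOfFiniteType.jacobsonSpace f
  have : DiscreteTopology X := inferInstance
  have hA : IsAffine X := inferInstance
  refine ⟨hA, ?_⟩
  have : IsLocallyNoetherian X := LocallyOfFiniteType.isLocallyNoetherian f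
  have : IsLocallyArtinian X := .of_isLocallyNoetherian_of_discreteTopology
  have hK : IsArtinianRing Γ(Spec (CommRingCat.of K), ⊤) :=
    (Scheme.ΓSpecIso (CommRingCat.of K)).commRingCatIsoToRingEquiv.symm.isArtinianRing
  have hft : f.appTop.hom.FiniteType :=
    (HasRingHomProperty.iff_of_isAffine (P := @LocallyOfFiniteType)).mp inferInstance
  algebraize [f.appTop.hom]
  exact Module.finite_of_isArtinianRing Γ(Spec (CommRingCat.of K), ⊤) Γ(X, ⊤)

end Groth.Agent.Lib.FinCond
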