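import Mathlib.AlgebraicGeometry.SpreadingOut
import Mathlib.AlgebraicGeometry.Morphisms.FinitePresentation

/-!
# Spreading out morphisms at a point without germ-injectivity

Existence needs the target locally of finite presentation, uniqueness only locally of finite type.
-/

set_option autoImplicit false
universe u
open CategoryTheory AlgebraicGeometry TopologicalSpace Opposite

namespace Groth.Agent.Lib.FinCond.SpreadOut

variable {X : Scheme.{u}} {R A : CommRingCat.{u}}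

theorem exists_res_eq_zero {U : X.Opens} {x : X} (hxU : x ∈ U) (a : Γ(X, U))
    (ha : X.presheaf.germ U x hxU a = 0) :
    ∃ (W : X.Opens) (_ : x ∈ W) (i : W ≤ U), X.presheaf.map (homOfLE i).op a = 0 := by
  obtain ⟨W, hxW, i, i', h⟩ := X.presheaf.germ_eq x hxU hxU a 0 (by rw [ha, map_zero])
  exact ⟨W, hxW, i.le, h.trans (map_zero _)⟩

theorem exists_res_eq_of_finiteType {U : X.Opens} {x : X} (hxU : x ∈ U) (φRA : R ⟶ A)
    (hft : φRA.hom.FiniteType) (α β : A ⟶ Γ(X, U)) (h : φRA ≫ α = φRA ≫ β)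
    (hg : α ≫ X.presheaf.germ U x hxU = β ≫ X.presheaf.germ U x hxU) :
    ∃ (V : X.Opens) (_ : x ∈ V) (i : V ≤ U), IsAffineOpen V ∧
      α ≫ X.presheaf.map (homOfLE i).op = β ≫ X.presheaf.map (homOfLE i).op := by
  letI := φRA.hom.toAlgebra
  obtain ⟨G, hG⟩ := hft
  have : ∀ a : A, ∃ (W : X.Opens) (_ : x ∈ W) (i : W ≤ U),
      X.presheaf.map (homOfLE i).op (α a - β a) = 0 := fun a => by
    refine exists_res_eq_zero hxU _ ?_
    rw [map_sub, sub_eq_zero]
    exact congr($hg a)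
  choose W hxW iW hW using this
  have hx : x ∈ G.inf W ⊓ U := by
    rw [← SetLike.mem_coe, Opens.coe_inf, Opens.coe_finset_inf]
    exact ⟨by simpa using fun a _ => hxW a, hxU⟩
  obtain ⟨V, hV, hxV, hle⟩ := exists_isAffineOpen_mem_and_subset hx
  replace hle : V ≤ G.inf W ⊓ U := hle
  refine ⟨V, hxV, hle.trans inf_le_right, hV, ?_⟩
  ext a
  have ha : a ∈ Algebra.adjoin R (G : Set A) := hG ▸ Algebra.mem_top
  induction ha using Algebra.adjoin_induction with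
  | mem a ha =>
    have hW' : V ≤ W a := (hle.trans inf_le_left).trans (Finset.inf_le ha)
    have h0 := congrArg (X.presheaf.map (homOfLE hW').op) (hW a)
    rw [map_zero, ← ConcreteCategory.comp_apply, ← Functor.map_comp, map_sub, sub_eq_zero] at h0
    exact h0
  | algebraMap r => exact congr(X.presheaf.map (homOfLE (hle.trans inf_le_right)).op ($h r))
  | add a b _ _ ha hb => simp only [map_add, ha, hb]
  | mul a b _ _ ha hb => simp only [map_mul, ha, hb]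

theorem exists_lift_of_finitePresentation {U : X.Opens} {x : X} (hxU : x ∈ U)
    (φ : A ⟶ X.presheaf.stalk x) (φRA : R ⟶ A) (φRX : R ⟶ Γ(X, U))
    (hfp : φRA.hom.FinitePresentation) (e : φRA ≫ φ = φRX ≫ X.presheaf.germ U x hxU) :
    ∃ (V : X.Opens) (hxV : x ∈ V) (φ' : A ⟶ Γ(X, V)) (i : V ≤ U), IsAffineOpen V ∧
      φ = φ' ≫ X.presheaf.germ V x hxV ∧ φRX ≫ X.presheaf.map (homOfLE i).op = φRA ≫ φ' := by
  letI := φRA.hom.toAlgebra
  obtain ⟨n, π, hπ, G, hG⟩ := hfp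
  choose W hxW f hf using fun t : Fin n => X.presheaf.exists_germ_eq (φ (π (MvPolynomial.X t)))
  let V₀ : X.Opens := Finset.univ.inf W ⊓ U
  have hx₀ : x ∈ V₀ := by
    rw [← SetLike.mem_coe, Opens.coe_inf, Opens.coe_finset_inf]
    exact ⟨by simpa using hxW, hxU⟩
  let ψ : MvPolynomial (Fin n) R →+* Γ(X, V₀) := MvPolynomial.eval₂Hom
    ((X.presheaf.map (homOfLE (inf_le_right : V₀ ≤ U)).op).hom.comp φRX.hom)
    (fun t => X.presheaf.map
      (homOfLE (inf_le_left.trans (Finset.inf_le (Finset.mem_univ t)) : V₀ ≤ W t)).op (f t))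
  have hψ : (X.presheaf.germ V₀ x hx₀).hom.comp ψ = φ.hom.comp π.toRingHom := by
    apply MvPolynomial.ringHom_ext
    · intro r
      simp only [RingHom.comp_apply, ψ, MvPolynomial.eval₂Hom_C]
      refine (X.presheaf.germ_res_apply _ _ _ _).trans ?_
      have hr : π (MvPolynomial.C r) = algebraMap R A r := π.commutes r
      rw [show π.toRingHom (MvPolynomial.C r) = φRA r from hr]
      exact congr($(e.symm) r)
    · intro t
      simp only [RingHom.comp_apply, ψ, MvPolynomial.eval₂Hom_X']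
      exact (X.presheaf.germ_res_apply _ _ _ _).trans (hf t)
  have hker : ∀ g ∈ G, ∃ (W' : X.Opens) (_ : x ∈ W') (i : W' ≤ V₀),
      X.presheaf.map (homOfLE i).op (ψ g) = 0 := fun g hg => by
    refine exists_res_eq_zero hx₀ _ ?_
    have := congr($hψ g)
    simp only [RingHom.comp_apply] at this
    refine this.trans ?_
    rw [show π.toRingHom g = 0 from (hG ▸ Ideal.subset_span hg : g ∈ RingHom.ker π.toRingHom),
      map_zero]
  choose! W' hxW' iW' hW' using hker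
  have hx₁ : x ∈ G.inf W' ⊓ V₀ := by
    rw [← SetLike.mem_coe, Opens.coe_inf, Opens.coe_finset_inf]
    exact ⟨by simpa using fun g hg => hxW' g hg, hx₀⟩
  obtain ⟨V, hV, hxV, hle⟩ := exists_isAffineOpen_mem_and_subset hx₁
  replace hle : V ≤ G.inf W' ⊓ V₀ := hle
  have hV₀ : V ≤ V₀ := hle.trans inf_le_right
  let ψ₁ : MvPolynomial (Fin n) R →+* Γ(X, V) := (X.presheaf.map (homOfLE hV₀).op).hom.comp ψ
  have hψ₁ : RingHom.ker π.toRingHom ≤ RingHom.ker ψ₁ := by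
    rw [← hG, Ideal.span_le]
    intro g hg
    have hgW : V ≤ W' g := (hle.trans inf_le_left).trans (Finset.inf_le hg)
    have h0 := congrArg (X.presheaf.map (homOfLE hgW).op) (hW' g hg)
    rw [map_zero, ← ConcreteCategory.comp_apply, ← Functor.map_comp] at h0
    exact h0
  let φ' : A →+* Γ(X, V) := π.toRingHom.liftOfSurjective hπ ⟨ψ₁, hψ₁⟩
  have hφ' : ∀ p, φ' (π p) = ψ₁ p := fun p =>
    RingHom.liftOfSurjective_comp_apply π.toRingHom hπ ⟨ψ₁, hψ₁⟩ p
  refine ⟨V, hxV, CommRingCat.ofHom φ', hV₀.trans inf_le_right, hV, ?_, ?_⟩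
  · ext a
    obtain ⟨p, rfl⟩ := hπ a
    show φ (π p) = X.presheaf.germ V x hxV (φ' (π p))
    rw [hφ']
    exact (congr($hψ p)).symm.trans (X.presheaf.germ_res_apply _ _ _ _).symm
  · ext r
    show X.presheaf.map _ (φRX r) = φ' (φRA r)
    rw [show φRA r = π (MvPolynomial.C r) from (π.commutes r).symm, hφ']
    simp only [ψ₁, ψ, RingHom.comp_apply, MvPolynomial.eval₂Hom_C]
    rw [show (homOfLE (hV₀.trans inf_le_right)).op =
      (homOfLE (inf_le_right : V₀ ≤ U)).op ≫ (homOfLE hV₀).op from rfl, Functor.map_comp]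
    rfl

variable {Y S : Scheme.{u}}

theorem exists_eq_nhd (sX : X ⟶ S) (sY : Y ⟶ S) [LocallyOfFiniteType sY] (f g : X ⟶ Y)
    (hf : f ≫ sY = sX) (hg : g ≫ sY = sX) {x : X} (e : f x = g x)
    (H : f.stalkMap x =
      Y.presheaf.stalkSpecializes (Inseparable.of_eq e.symm).specializes ≫ g.stalkMap x) :
    ∃ U : X.Opens, x ∈ U ∧ U.ι ≫ f = U.ι ≫ g := by
  subst hf
  obtain ⟨S₀, hS₀, hxS, -⟩ :=
    exists_isAffineOpen_mem_and_subset (x := sY (f x)) (U := (⊤ : S.Opens)) trivial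
  obtain ⟨V, hV, hxV, hVS⟩ := exists_isAffineOpen_mem_and_subset (x := f x) (U := sY ⁻¹ᵁ S₀) hxS
  replace hVS : V ≤ sY ⁻¹ᵁ S₀ := hVS
  have hxV' : g x ∈ V := e ▸ hxV
  obtain ⟨U, hU, hxU, hUV⟩ :=
    exists_isAffineOpen_mem_and_subset (x := x) (U := f ⁻¹ᵁ V ⊓ g ⁻¹ᵁ V) ⟨hxV, hxV'⟩
  replace hUV : U ≤ f ⁻¹ᵁ V ⊓ g ⁻¹ᵁ V := hUV
  have hUf : U ≤ f ⁻¹ᵁ V := hUV.trans inf_le_left
  have hUg : U ≤ g ⁻¹ᵁ V := hUV.trans inf_le_right
  have hU₀ : U ≤ (f ≫ sY) ⁻¹ᵁ S₀ := fun z hz => hVS (hUf hz)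
  obtain ⟨W, hxW, i, hW, h⟩ := exists_res_eq_of_finiteType hxU (sY.appLE S₀ V hVS)
    (sY.finiteType_appLE hS₀ hV hVS) (f.appLE V U hUf) (g.appLE V U hUg)
    (by rw [Scheme.Hom.appLE_comp_appLE, Scheme.Hom.appLE_comp_appLE]; congr 1; exact hg.symm)
    (by
      simp only [Scheme.Hom.appLE, Category.assoc, X.presheaf.germ_res']
      erw [← Scheme.Hom.germ_stalkMap f V x hxV, ← Scheme.Hom.germ_stalkMap g V x hxV', H,
        TopCat.Presheaf.germ_stalkSpecializes_assoc])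
  refine ⟨W, hxW, ?_⟩
  rw [Scheme.Hom.appLE_map, Scheme.Hom.appLE_map] at h
  rw [show W.ι = hW.isoSpec.hom ≫ hW.fromSpec by
    rw [IsAffineOpen.fromSpec, Iso.hom_inv_id_assoc], Category.assoc, Category.assoc,
    ← IsAffineOpen.SpecMap_appLE_fromSpec f hV hW (i.trans hUf),
    ← IsAffineOpen.SpecMap_appLE_fromSpec g hV hW (i.trans hUg), h]

theorem exists_eq_nhd' (sY : Y ⟶ S) [LocallyOfFiniteType sY] (f g : X ⟶ Y)
    (hfg : f ≫ sY = g ≫ sY) {x : X} (e : X.fromSpecStalk x ≫ f = X.fromSpecStalk x ≫ g) :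
    ∃ U : X.Opens, x ∈ U ∧ U.ι ≫ f = U.ι ≫ g := by
  refine exists_eq_nhd (g ≫ sY) sY f g hfg rfl ?_ ?_
  · have h0 := congrArg (fun m => (m : Spec (X.presheaf.stalk x) ⟶ Y) (IsLocalRing.closedPoint _)) e
    erw [Scheme.Hom.comp_apply, Scheme.fromSpecStalk_closedPoint] at h0
    refine h0.trans ?_
    show g (X.fromSpecStalk x (IsLocalRing.closedPoint _)) = g x
    rw [Scheme.fromSpecStalk_closedPoint]
  · apply Spec.map_injective
    rw [← cancel_mono (Y.fromSpecStalk _)]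
    simpa [Scheme.SpecMap_stalkSpecializes_fromSpecStalk]

theorem exists_spread_out (sX : X ⟶ S) (sY : Y ⟶ S) [LocallyOfFinitePresentation sY] {x : X} {y : Y}
    (e : sX x = sY y) (φ : Y.presheaf.stalk y ⟶ X.presheaf.stalk x)
    (h : sY.stalkMap y ≫ φ =
      S.presheaf.stalkSpecializes (Inseparable.of_eq e).specializes ≫ sX.stalkMap x) :
    ∃ (U : X.Opens) (hxU : x ∈ U) (f : U.toScheme ⟶ Y),
      Spec.map φ ≫ Y.fromSpecStalk y = U.fromSpecStalkOfMem x hxU ≫ f ∧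
      f ≫ sY = U.ι ≫ sX := by
  obtain ⟨U, hU, hxU, -⟩ :=
    exists_isAffineOpen_mem_and_subset (x := sX x) (U := (⊤ : S.Opens)) trivial
  have hyU : sY y ∈ U := e ▸ hxU
  obtain ⟨V, hV, hyV, iVU⟩ := exists_isAffineOpen_mem_and_subset (x := y) (U := sY ⁻¹ᵁ U) hyU
  replace iVU : V ≤ sY ⁻¹ᵁ U := iVU
  have : sY.appLE U V iVU ≫ Y.presheaf.germ V y hyV ≫ φ =
      sX.app U ≫ X.presheaf.germ (sX ⁻¹ᵁ U) x hxU := by
    rw [Scheme.Hom.appLE, Category.assoc, Y.presheaf.germ_res_assoc]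
    erw [← Scheme.Hom.germ_stalkMap_assoc sY U y hyU, h,
      TopCat.Presheaf.germ_stalkSpecializes_assoc]
    exact Scheme.Hom.germ_stalkMap sX U x hxU
  obtain ⟨W, hxW, φ', i, hW, h₁, h₂⟩ :=
    exists_lift_of_finitePresentation (U := sX ⁻¹ᵁ U) (x := x) hxU (Y.presheaf.germ _ y hyV ≫ φ)
      (sY.appLE U V iVU) (sX.app U) (sY.finitePresentation_appLE hU hV iVU) this
  refine ⟨W, hxW, W.toSpecΓ ≫ Spec.map φ' ≫ hV.fromSpec, ?_, ?_⟩
  · rw [W.fromSpecStalkOfMem_toSpecΓ_assoc x hxW, ← Spec.map_comp_assoc, ← h₁,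
      Spec.map_comp, Category.assoc, ← IsAffineOpen.fromSpecStalk,
      IsAffineOpen.fromSpecStalk_eq_fromSpecStalk]
  · simp only [Category.assoc]
    rw [← IsAffineOpen.SpecMap_appLE_fromSpec sY hU hV iVU, ← Spec.map_comp_assoc, ← h₂,
      ← Scheme.Hom.appLE, ← hW.isoSpec_hom, IsAffineOpen.SpecMap_appLE_fromSpec sX hU hW i,
      ← Iso.eq_inv_comp, IsAffineOpen.isoSpec_inv_ι_assoc]

end Groth.Agent.Lib.FinCond.SpreadOut
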