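import Groth.Agent.Lib.FinCond.SpreadOut

/-!
# Spreading out isomorphisms of local rings
-/

set_option autoImplicit false
universe u
open CategoryTheory AlgebraicGeometry TopologicalSpace

namespace Groth.Agent.Lib.FinCond.SpreadOut

variable {X Y S : Scheme.{u}}

theorem homOfLE_fromSpecStalkOfMem {U V : X.Opens} (h : U ≤ V) {x : X} (hx : x ∈ U) :
    U.fromSpecStalkOfMem x hx ≫ X.homOfLE h = V.fromSpecStalkOfMem x (h hx) := by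
  rw [← cancel_mono V.ι, Category.assoc, Scheme.homOfLE_ι, Scheme.Opens.fromSpecStalkOfMem_ι,
    Scheme.Opens.fromSpecStalkOfMem_ι]

theorem fromSpecStalk_eq {U : X.Opens} {x : X} (hx : x ∈ U) :
    U.toScheme.fromSpecStalk ⟨x, hx⟩ =
      Spec.map (U.ι.stalkMap ⟨x, hx⟩) ≫ U.fromSpecStalkOfMem x hx := by
  rw [← cancel_mono U.ι]
  exact (Scheme.SpecMap_stalkMap_fromSpecStalk U.ι (x := ⟨x, hx⟩)).symm.trans
    ((congrArg (Spec.map (U.ι.stalkMap ⟨x, hx⟩) ≫ ·)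
      (Scheme.Opens.fromSpecStalkOfMem_ι U x hx).symm).trans (Category.assoc _ _ _).symm)

theorem range_subset_of_forall {U : X.Opens} {V : Y.Opens} (m : (U : Scheme.{u}) ⟶ Y)
    (h : ∀ u, m u ∈ V) : Set.range m ⊆ Set.range V.ι := by
  rintro _ ⟨u, rfl⟩
  rw [Scheme.Opens.range_ι]
  exact h u

theorem exists_near_id (sX : X ⟶ S) (sY : Y ⟶ S) [LocallyOfFiniteType sX] {x : X} {y : Y}
    (φ : Y.presheaf.stalk y ⟶ X.presheaf.stalk x) (ψ : X.presheaf.stalk x ⟶ Y.presheaf.stalk y)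
    (hψφ : ψ ≫ φ = 𝟙 _) {U₁ : X.Opens} (hxU : x ∈ U₁) (f₁ : U₁.toScheme ⟶ Y)
    (hf : Spec.map φ ≫ Y.fromSpecStalk y = U₁.fromSpecStalkOfMem x hxU ≫ f₁)
    (hfS : f₁ ≫ sY = U₁.ι ≫ sX) {V₁ : Y.Opens} (hyV : y ∈ V₁) (g₁ : V₁.toScheme ⟶ X)
    (hg : Spec.map ψ ≫ X.fromSpecStalk x = V₁.fromSpecStalkOfMem y hyV ≫ g₁)
    (hgS : g₁ ≫ sX = V₁.ι ≫ sY) :
    ∃ (U₃ : X.Opens) (h : U₃ ≤ U₁) (j : U₃.toScheme ⟶ V₁.toScheme), x ∈ U₃ ∧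
      j ≫ V₁.ι = X.homOfLE h ≫ f₁ ∧ j ≫ g₁ = U₃.ι := by
  let U₂ : X.Opens := U₁.ι ''ᵁ (f₁ ⁻¹ᵁ V₁)
  have h₂ : U₂ ≤ U₁ := by
    rintro _ ⟨z, -, rfl⟩
    exact z.2
  have hfx : f₁ (U₁.fromSpecStalkOfMem x hxU (IsLocalRing.closedPoint _)) ∈ V₁ := by
    have e := congrArg (fun m => (m : Spec (X.presheaf.stalk x) ⟶ Y) (IsLocalRing.closedPoint _)) hf
    have e' : Spec.map φ ≫ Y.fromSpecStalk y = (Spec.map φ ≫ V₁.fromSpecStalkOfMem y hyV) ≫ V₁.ι := by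
      rw [Category.assoc, Scheme.Opens.fromSpecStalkOfMem_ι]
    show (U₁.fromSpecStalkOfMem x hxU ≫ f₁) (IsLocalRing.closedPoint _) ∈ V₁
    rw [← hf, e']
    exact ((Spec.map φ ≫ V₁.fromSpecStalkOfMem y hyV) (IsLocalRing.closedPoint _)).2
  have hx₂ : x ∈ U₂ := by
    refine ⟨_, hfx, ?_⟩
    show (U₁.fromSpecStalkOfMem x hxU ≫ U₁.ι) (IsLocalRing.closedPoint _) = x
    rw [Scheme.Opens.fromSpecStalkOfMem_ι, Scheme.fromSpecStalk_closedPoint]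
  have hr : Set.range (X.homOfLE h₂ ≫ f₁) ⊆ Set.range V₁.ι := by
    refine range_subset_of_forall _ ?_
    rintro ⟨_, z, hz, rfl⟩
    show f₁ (X.homOfLE h₂ ⟨U₁.ι z, _⟩) ∈ V₁
    rw [show X.homOfLE h₂ ⟨U₁.ι z, ⟨z, hz, rfl⟩⟩ = z from Subtype.ext (Scheme.homOfLE_apply _ _)]
    exact hz
  let k := IsOpenImmersion.lift V₁.ι (X.homOfLE h₂ ≫ f₁) hr
  have hk : k ≫ V₁.ι = X.homOfLE h₂ ≫ f₁ := IsOpenImmersion.lift_fac _ _ hr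
  have hstalk : U₂.fromSpecStalkOfMem x hx₂ ≫ k = Spec.map φ ≫ V₁.fromSpecStalkOfMem y hyV := by
    rw [← cancel_mono V₁.ι, Category.assoc, hk, reassoc_of% homOfLE_fromSpecStalkOfMem h₂ hx₂,
      ← hf, Category.assoc, Scheme.Opens.fromSpecStalkOfMem_ι]
  have hagree : U₂.fromSpecStalkOfMem x hx₂ ≫ k ≫ g₁ = U₂.fromSpecStalkOfMem x hx₂ ≫ U₂.ι := by
    rw [reassoc_of% hstalk, ← hg, ← Category.assoc, ← Spec.map_comp, hψφ, Spec.map_id,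
      Category.id_comp, Scheme.Opens.fromSpecStalkOfMem_ι]
  obtain ⟨W, hxW, hW⟩ := exists_eq_nhd' (x := (⟨x, hx₂⟩ : U₂)) sX (k ≫ g₁) U₂.ι
    (by rw [Category.assoc, hgS, ← Category.assoc, hk, Category.assoc, hfS,
      ← Category.assoc, Scheme.homOfLE_ι])
    (by
      erw [fromSpecStalk_eq hx₂, Category.assoc, hagree]
      exact (Category.assoc _ _ _).symm)
  have h₃ : U₂.ι ''ᵁ W ≤ U₂ := by
    rintro _ ⟨z, -, rfl⟩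
    exact z.2
  have hrW : Set.range (X.homOfLE h₃) ⊆ Set.range W.ι := by
    refine range_subset_of_forall (X := X) (Y := U₂.toScheme) (V := W) _ ?_
    rintro ⟨_, z, hz, rfl⟩
    exact Set.mem_of_eq_of_mem (y := z) (Subtype.ext (Scheme.homOfLE_apply _ _)) hz
  refine ⟨U₂.ι ''ᵁ W, h₃.trans h₂, X.homOfLE h₃ ≫ k, ⟨⟨x, hx₂⟩, hxW, rfl⟩, ?_, ?_⟩
  · rw [Category.assoc, hk, Scheme.homOfLE_homOfLE_assoc]
  · have e := IsOpenImmersion.lift_fac W.ι (X.homOfLE h₃) hrW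
    rw [Category.assoc, ← e, Category.assoc, hW, ← Category.assoc, e, Scheme.homOfLE_ι]

theorem exists_spread_out_iso (sX : X ⟶ S) (sY : Y ⟶ S) [LocallyOfFinitePresentation sX]
    [LocallyOfFinitePresentation sY] {x : X} {y : Y} (e : sX x = sY y)
    (φ : Y.presheaf.stalk y ⟶ X.presheaf.stalk x) [IsIso φ]
    (h : sY.stalkMap y ≫ φ =
      S.presheaf.stalkSpecializes (Inseparable.of_eq e).specializes ≫ sX.stalkMap x) :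
    ∃ (U : X.Opens) (hxU : x ∈ U) (V : Y.Opens) (f : U.toScheme ⟶ V.toScheme), IsIso f ∧
      Spec.map φ ≫ Y.fromSpecStalk y = U.fromSpecStalkOfMem x hxU ≫ f ≫ V.ι ∧
        f ≫ V.ι ≫ sY = U.ι ≫ sX := by
  obtain ⟨U₁, hxU₁, f₁, hf, hfS⟩ := exists_spread_out sX sY e φ h
  have h' : sX.stalkMap x ≫ inv φ =
      S.presheaf.stalkSpecializes (Inseparable.of_eq e.symm).specializes ≫ sY.stalkMap y := by
    rw [IsIso.comp_inv_eq, Category.assoc, h, TopCat.Presheaf.stalkSpecializes_comp_assoc,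
      TopCat.Presheaf.stalkSpecializes_refl]
    exact (Category.id_comp _).symm
  obtain ⟨V₁, hyV₁, g₁, hg, hgS⟩ := exists_spread_out sY sX e.symm (inv φ) h'
  obtain ⟨U₃, hU₃, j, hx₃, hj, hjg⟩ :=
    exists_near_id sX sY φ (inv φ) (IsIso.inv_hom_id φ) hxU₁ f₁ hf hfS hyV₁ g₁ hg hgS
  obtain ⟨V₃, hV₃, i, hy₃, hi, hif⟩ :=
    exists_near_id sY sX (inv φ) φ (IsIso.hom_inv_id φ) hyV₁ g₁ hg hgS hxU₁ f₁ hf hfS
  let U : X.Opens := U₃.ι ''ᵁ ((j ≫ V₁.ι) ⁻¹ᵁ V₃)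
  let V : Y.Opens := V₃.ι ''ᵁ ((i ≫ U₁.ι) ⁻¹ᵁ U₃)
  have hU : U ≤ U₃ := by rintro _ ⟨z, -, rfl⟩; exact z.2
  have hV : V ≤ V₃ := by rintro _ ⟨z, -, rfl⟩; exact z.2
  have hjst : U₃.fromSpecStalkOfMem x hx₃ ≫ j = Spec.map φ ≫ V₁.fromSpecStalkOfMem y hyV₁ := by
    rw [← cancel_mono V₁.ι, Category.assoc, hj, reassoc_of% homOfLE_fromSpecStalkOfMem hU₃ hx₃,
      ← hf, Category.assoc, Scheme.Opens.fromSpecStalkOfMem_ι]
  have hxU : x ∈ U := by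
    refine ⟨U₃.fromSpecStalkOfMem x hx₃ (IsLocalRing.closedPoint _), ?_, ?_⟩
    · show (U₃.fromSpecStalkOfMem x hx₃ ≫ j ≫ V₁.ι) (IsLocalRing.closedPoint _) ∈ V₃
      rw [reassoc_of% hjst]
      have : Spec.map φ ≫ V₁.fromSpecStalkOfMem y hyV₁ ≫ V₁.ι =
          (Spec.map φ ≫ V₃.fromSpecStalkOfMem y hy₃) ≫ V₃.ι := by
        simp only [Category.assoc, Scheme.Opens.fromSpecStalkOfMem_ι]
      rw [this]
      exact ((Spec.map φ ≫ V₃.fromSpecStalkOfMem y hy₃) (IsLocalRing.closedPoint _)).2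
    · show (U₃.fromSpecStalkOfMem x hx₃ ≫ U₃.ι) (IsLocalRing.closedPoint _) = x
      rw [Scheme.Opens.fromSpecStalkOfMem_ι, Scheme.fromSpecStalk_closedPoint]
  have hra : Set.range (X.homOfLE hU ≫ j ≫ V₁.ι) ⊆ Set.range V.ι := by
    refine range_subset_of_forall _ ?_
    rintro ⟨_, z, hz, rfl⟩
    show (j ≫ V₁.ι) (X.homOfLE hU ⟨U₃.ι z, _⟩) ∈ V
    rw [show X.homOfLE hU ⟨U₃.ι z, ⟨z, hz, rfl⟩⟩ = z from Subtype.ext (Scheme.homOfLE_apply _ _)]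
    refine ⟨⟨(j ≫ V₁.ι) z, hz⟩, ?_, rfl⟩
    show (i ≫ U₁.ι) ⟨(j ≫ V₁.ι) z, hz⟩ ∈ U₃
    rw [hi]
    show g₁ (Y.homOfLE hV₃ ⟨(j ≫ V₁.ι) z, hz⟩) ∈ U₃
    rw [show Y.homOfLE hV₃ ⟨(j ≫ V₁.ι) z, hz⟩ = j z from Subtype.ext (Scheme.homOfLE_apply _ _)]
    show (j ≫ g₁) z ∈ U₃
    rw [hjg]
    exact z.2
  have hrb : Set.range (Y.homOfLE hV ≫ i ≫ U₁.ι) ⊆ Set.range U.ι := by
    refine range_subset_of_forall _ ?_
    rintro ⟨_, z, hz, rfl⟩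
    show (i ≫ U₁.ι) (Y.homOfLE hV ⟨V₃.ι z, _⟩) ∈ U
    rw [show Y.homOfLE hV ⟨V₃.ι z, ⟨z, hz, rfl⟩⟩ = z from Subtype.ext (Scheme.homOfLE_apply _ _)]
    refine ⟨⟨(i ≫ U₁.ι) z, hz⟩, ?_, rfl⟩
    show (j ≫ V₁.ι) ⟨(i ≫ U₁.ι) z, hz⟩ ∈ V₃
    rw [hj]
    show f₁ (X.homOfLE hU₃ ⟨(i ≫ U₁.ι) z, hz⟩) ∈ V₃
    rw [show X.homOfLE hU₃ ⟨(i ≫ U₁.ι) z, hz⟩ = i z from Subtype.ext (Scheme.homOfLE_apply _ _)]
    show (i ≫ f₁) z ∈ V₃
    rw [hif]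
    exact z.2
  let a := IsOpenImmersion.lift V.ι _ hra
  let b := IsOpenImmersion.lift U.ι _ hrb
  have ha : a ≫ V.ι = X.homOfLE hU ≫ j ≫ V₁.ι := IsOpenImmersion.lift_fac _ _ hra
  have hb : b ≫ U.ι = Y.homOfLE hV ≫ i ≫ U₁.ι := IsOpenImmersion.lift_fac _ _ hrb
  have ha' : a ≫ Y.homOfLE (hV.trans hV₃) = X.homOfLE hU ≫ j := by
    rw [← cancel_mono V₁.ι]; simp [ha]
  have hb' : b ≫ X.homOfLE (hU.trans hU₃) = Y.homOfLE hV ≫ i := by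
    rw [← cancel_mono U₁.ι]; simp [hb]
  have hab : a ≫ b = 𝟙 _ := by
    rw [← cancel_mono U.ι, Category.assoc, hb, hi, ← Category.assoc (Y.homOfLE hV),
      Scheme.homOfLE_homOfLE, reassoc_of% ha', hjg, Scheme.homOfLE_ι, Category.id_comp]
  have hba : b ≫ a = 𝟙 _ := by
    rw [← cancel_mono V.ι, Category.assoc, ha, hj, ← Category.assoc (X.homOfLE hU),
      Scheme.homOfLE_homOfLE, reassoc_of% hb', hif, Scheme.homOfLE_ι, Category.id_comp]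
  refine ⟨U, hxU, V, a, ⟨b, hab, hba⟩, ?_, ?_⟩
  · rw [ha, reassoc_of% homOfLE_fromSpecStalkOfMem hU hxU, reassoc_of% hjst,
      Scheme.Opens.fromSpecStalkOfMem_ι]
  · rw [reassoc_of% ha, reassoc_of% hj, hfS, Scheme.homOfLE_homOfLE_assoc,
      ← Category.assoc, Scheme.homOfLE_ι]

end Groth.Agent.Lib.FinCond.SpreadOut
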